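import Groth.Agent.EllLiftJ.Tangent
import Mathlib.AlgebraicGeometry.EllipticCurve.IsomOfJ
import Mathlib.RingTheory.IntegralClosure.IsIntegralClosure.Basic
import Mathlib.FieldTheory.IsAlgClosed.AlgebraicClosure
import Mathlib.RingTheory.Localization.FractionRing
import Mathlib.Tactic.ComputeDegree

/-!
Isomorphisms of elliptic curves over a local ring with integral coordinates.
-/

set_option autoImplicit false

open IsLocalRing Polynomial

universe u v

namespace Groth.Agent.EllLiftJ

variable {R : Type u} [CommRing R] {K : Type v} [Field K] [Algebra R K]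

theorem isIntegral_quartic {x a b c d : K} (ha : IsIntegral R a) (hb : IsIntegral R b)
    (hc : IsIntegral R c) (hd : IsIntegral R d)
    (h : x ^ 4 + a * x ^ 3 + b * x ^ 2 + c * x + d = 0) : IsIntegral R x := by
  let S := integralClosure R K
  let f : S[X] := X ^ 4 + C (⟨a, ha⟩ : S) * X ^ 3 + C (⟨b, hb⟩ : S) * X ^ 2 + C (⟨c, hc⟩ : S) * X + C ⟨d, hd⟩
  haveI : Algebra.IsIntegral R S := integralClosure.AlgebraIsIntegral ..
  have hf : f.Monic := by simp only [f]; monicity!
  have hx : aeval x f = 0 := by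
    simp only [f, map_add, map_mul, map_pow, aeval_X, aeval_C]
    exact h
  exact isIntegral_trans (A := S) x ⟨f, hf, by rwa [← aeval_def]⟩

variable (R) in
/-- A variable change over a field between curves coming from elliptic curves over a local ring has
integral coordinates. -/
theorem isIntegral_of_variableChange [IsLocalRing R] (W₁ W₂ : WeierstrassCurve R) [W₁.IsElliptic] [W₂.IsElliptic]
    (C : WeierstrassCurve.VariableChange K)
    (hC : C • W₁.map (algebraMap R K) = W₂.map (algebraMap R K)) :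
    IsIntegral R (C.u : K) ∧ IsIntegral R ((C.u⁻¹ : Kˣ) : K) ∧ IsIntegral R C.r ∧ IsIntegral R C.s ∧
      IsIntegral R C.t := by
  obtain ⟨U, r, s, t⟩ := C
  have hv : ((U⁻¹ : Kˣ) : K) = (U : K)⁻¹ := Units.val_inv_eq_inv_val U
  have hu0 : (U : K) ≠ 0 := U.ne_zero
  have I : ∀ a : R, IsIntegral R (algebraMap R K a) := fun a => isIntegral_algebraMap
  have J : ∀ n : ℕ, IsIntegral R (n : K) := fun n => by simpa using I n
  have hΔ := congrArg WeierstrassCurve.Δ hC
  rw [WeierstrassCurve.variableChange_Δ, WeierstrassCurve.map_Δ, WeierstrassCurve.map_Δ] at hΔ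
  obtain ⟨d₁, hd₁⟩ := W₁.isUnit_Δ
  obtain ⟨d₂, hd₂⟩ := W₂.isUnit_Δ
  simp only [hv, ← hd₁, ← hd₂] at hΔ
  have hu : IsIntegral R (U : K) := by
    refine IsIntegral.of_pow (n := 12) (by norm_num) ?_
    have : (U : K) ^ 12 = algebraMap R K (((d₂⁻¹ : Rˣ) : R) * (d₁ : R)) := by
      have h1 : algebraMap R K ((d₂⁻¹ : Rˣ) : R) * algebraMap R K (d₂ : R) = 1 := by
        rw [← map_mul, Units.inv_mul, map_one]
      have h2 : (U : K)⁻¹ ^ 12 * (U : K) ^ 12 = 1 := by rw [← mul_pow, inv_mul_cancel₀ hu0, one_pow]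
      rw [map_mul]
      linear_combination (- (U : K) ^ 12) * h1 + (algebraMap R K ((d₂⁻¹ : Rˣ) : R) * algebraMap R K (d₁ : R)) * h2
        - (U : K) ^ 12 * algebraMap R K ((d₂⁻¹ : Rˣ) : R) * hΔ
    rw [this]; exact I _
  have huinv : IsIntegral R (U : K)⁻¹ := by
    refine IsIntegral.of_pow (n := 12) (by norm_num) ?_
    have : (U : K)⁻¹ ^ 12 = algebraMap R K (((d₁⁻¹ : Rˣ) : R) * (d₂ : R)) := by
      have h1 : algebraMap R K ((d₁⁻¹ : Rˣ) : R) * algebraMap R K (d₁ : R) = 1 := by
        rw [← map_mul, Units.inv_mul, map_one]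
      rw [map_mul]
      linear_combination (- (U : K)⁻¹ ^ 12) * h1 + algebraMap R K ((d₁⁻¹ : Rˣ) : R) * hΔ
    rw [this]; exact I _
  have hk : ∀ (n : ℕ) (x y : K), (U : K)⁻¹ ^ n * x = y → x = (U : K) ^ n * y := fun n x y h => by
    rw [← h, ← mul_assoc, ← mul_pow, mul_inv_cancel₀ hu0, one_pow, one_mul]
  have hr : IsIntegral R r := by
    by_cases h3 : IsUnit (3 : R)
    · obtain ⟨w, hw⟩ := h3.exists_left_inv
      have hw' : algebraMap R K w * 3 = 1 := by rw [← map_ofNat (algebraMap R K), ← map_mul, hw, map_one]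
      have h := congrArg WeierstrassCurve.b₈ hC
      rw [WeierstrassCurve.variableChange_b₈, WeierstrassCurve.map_b₈, WeierstrassCurve.map_b₆,
        WeierstrassCurve.map_b₄, WeierstrassCurve.map_b₂, WeierstrassCurve.map_b₈] at h
      simp only [hv] at h
      have h' := hk _ _ _ h
      refine isIntegral_quartic (a := algebraMap R K w * algebraMap R K W₁.b₂)
        (b := algebraMap R K W₁.b₄) (c := algebraMap R K W₁.b₆)
        (d := algebraMap R K w * (algebraMap R K W₁.b₈ - (U : K) ^ 8 * algebraMap R K W₂.b₈))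
        ((I _).mul (I _)) (I _) (I _) ((I _).mul ((I _).sub ((hu.pow 8).mul (I _)))) ?_
      linear_combination algebraMap R K w * h' -
        (r ^ 4 + algebraMap R K W₁.b₄ * r ^ 2 + algebraMap R K W₁.b₆ * r) * hw'
    · have h2 : IsUnit (2 : R) := by
        by_contra h2
        refine (mem_maximalIdeal _).mp ?_ (isUnit_one (M := R))
        rw [show (1 : R) = 3 - 2 by norm_num]
        exact sub_mem ((mem_maximalIdeal _).mpr h3) ((mem_maximalIdeal _).mpr h2)
      obtain ⟨w, hw⟩ := (h2.mul h2).exists_left_inv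
      have hw' : algebraMap R K w * 4 = 1 := by
        rw [← map_ofNat (algebraMap R K), ← map_mul, show (4 : R) = 2 * 2 by norm_num, hw, map_one]
      have h := congrArg WeierstrassCurve.b₆ hC
      rw [WeierstrassCurve.variableChange_b₆, WeierstrassCurve.map_b₆,
        WeierstrassCurve.map_b₄, WeierstrassCurve.map_b₂, WeierstrassCurve.map_b₆] at h
      simp only [hv] at h
      have h' := hk _ _ _ h
      refine isIntegral_quartic (a := algebraMap R K w * algebraMap R K W₁.b₂)
        (b := algebraMap R K w * (2 : ℕ) * algebraMap R K W₁.b₄)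
        (c := algebraMap R K w * (algebraMap R K W₁.b₆ - (U : K) ^ 6 * algebraMap R K W₂.b₆)) (d := 0)
        ((I _).mul (I _)) (((I _).mul (J _)).mul (I _)) ((I _).mul ((I _).sub ((hu.pow 6).mul (I _))))
        isIntegral_zero ?_
      push_cast
      linear_combination r * algebraMap R K w * h' - r ^ 4 * hw'
  have hs : IsIntegral R s := by
    have h := congrArg WeierstrassCurve.a₂ hC
    rw [WeierstrassCurve.variableChange_a₂] at h
    simp only [hv, WeierstrassCurve.map_a₁, WeierstrassCurve.map_a₂] at h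
    have h' := hk _ _ _ h
    refine isIntegral_quartic (a := algebraMap R K W₁.a₁)
      (b := (U : K) ^ 2 * algebraMap R K W₂.a₂ - algebraMap R K W₁.a₂ - (3 : ℕ) * r) (c := 0) (d := 0)
      (I _) ((((hu.pow 2).mul (I _)).sub (I _)).sub ((J _).mul hr)) isIntegral_zero isIntegral_zero ?_
    push_cast
    linear_combination -s ^ 2 * h'
  have ht : IsIntegral R t := by
    have h := congrArg WeierstrassCurve.a₆ hC
    rw [WeierstrassCurve.variableChange_a₆] at h
    simp only [hv, WeierstrassCurve.map_a₁, WeierstrassCurve.map_a₂, WeierstrassCurve.map_a₃,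
      WeierstrassCurve.map_a₄, WeierstrassCurve.map_a₆] at h
    have h' := hk _ _ _ h
    refine isIntegral_quartic (a := algebraMap R K W₁.a₃ + r * algebraMap R K W₁.a₁)
      (b := (U : K) ^ 6 * algebraMap R K W₂.a₆ - algebraMap R K W₁.a₆ - r * algebraMap R K W₁.a₄
        - r ^ 2 * algebraMap R K W₁.a₂ - r ^ 3) (c := 0) (d := 0)
      ((I _).add (hr.mul (I _)))
      ((((((hu.pow 6).mul (I _)).sub (I _)).sub (hr.mul (I _))).sub ((hr.pow 2).mul (I _))).sub (hr.pow 3))
      isIntegral_zero isIntegral_zero ?_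
    linear_combination -t ^ 2 * h'
  exact ⟨hu, hv ▸ huinv, hr, hs, ht⟩

end Groth.Agent.EllLiftJ
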