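import Mathlib.AlgebraicGeometry.EllipticCurve.VariableChange
import Mathlib.RingTheory.LocalRing.ResidueField.Basic
import Mathlib.Tactic.LinearCombination

/-!
An elliptic curve over a local ring with square zero maximal ideal has no infinitesimal automorphism.
-/

set_option autoImplicit false

open IsLocalRing

universe u

namespace Groth.Agent.EllLiftJ

variable {T : Type u} [CommRing T] [IsLocalRing T]

/-- An infinitesimal automorphism of an elliptic curve is trivial. -/
theorem variableChange_eq_one (hsq : ∀ x ∈ maximalIdeal T, ∀ y ∈ maximalIdeal T, x * y = 0)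
    (W : WeierstrassCurve T) [W.IsElliptic] (D : WeierstrassCurve.VariableChange T)
    (hu : (D.u : T) - 1 ∈ maximalIdeal T) (hr : D.r ∈ maximalIdeal T) (hs : D.s ∈ maximalIdeal T)
    (ht : D.t ∈ maximalIdeal T) (hD : D • W = W) : D = 1 := by
  obtain ⟨U, r, s, t⟩ := D
  dsimp only at hu hr hs ht
  set e : T := (U : T) - 1 with he
  have hU : (U : T) = 1 + e := by rw [he]; ring
  have hee : e * e = 0 := hsq _ hu _ hu
  have hinv : ((U⁻¹ : Tˣ) : T) = 1 - e := by
    have h : (1 - e) * (U : T) = 1 := by rw [hU]; linear_combination -hee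
    calc ((U⁻¹ : Tˣ) : T) = (1 - e) * (U : T) * ((U⁻¹ : Tˣ) : T) := by rw [h, one_mul]
      _ = 1 - e := by rw [mul_assoc, Units.mul_inv, mul_one]
  have hΔ : IsUnit W.Δ := W.isUnit_Δ
  have nu : ∀ {x : T}, ¬IsUnit x → x ∈ maximalIdeal T := fun h => (mem_maximalIdeal _).mpr h
  have hes := hsq _ hu _ hs
  have her := hsq _ hu _ hr
  have het := hsq _ hu _ ht
  have hrr := hsq _ hr _ hr
  have hrs := hsq _ hr _ hs
  have hrt := hsq _ hr _ ht
  have hss := hsq _ hs _ hs
  have hst := hsq _ hs _ ht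
  have htt := hsq _ ht _ ht
  have e1 : 2 * s = W.a₁ * e := by
    have h := congrArg WeierstrassCurve.a₁ hD
    rw [WeierstrassCurve.variableChange_a₁] at h
    simp only [hinv] at h
    linear_combination h + 2 * hes
  have e2 : 3 * r - s * W.a₁ = 2 * W.a₂ * e := by
    have h := congrArg WeierstrassCurve.a₂ hD
    rw [WeierstrassCurve.variableChange_a₂] at h
    simp only [hinv] at h
    linear_combination h + (1 - 2 * e + e * e) * hss - W.a₂ * hee + (s * W.a₁ - 3 * r) * hee +
      (- 2 * W.a₁) * hes + 6 * her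
  have e3 : r * W.a₁ + 2 * t = 3 * W.a₃ * e := by
    have h := congrArg WeierstrassCurve.a₃ hD
    rw [WeierstrassCurve.variableChange_a₃] at h
    simp only [hinv] at h
    linear_combination h + (-(3 - e) * (W.a₃ + r * W.a₁ + 2 * t)) * hee + 3 * W.a₁ * her + 6 * het
  have e4 : -(s * W.a₃) + 2 * r * W.a₂ - t * W.a₁ = 4 * W.a₄ * e := by
    have h := congrArg WeierstrassCurve.a₄ hD
    rw [WeierstrassCurve.variableChange_a₄] at h
    simp only [hinv] at h
    linear_combination h + (-(6 - 4 * e + e * e) *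
        (W.a₄ - s * W.a₃ + 2 * r * W.a₂ - (t + r * s) * W.a₁ + 3 * r ^ 2 - 2 * s * t)) * hee
      + (1 - 4 * e) * W.a₁ * hrs - 3 * (1 - 4 * e) * hrr + 2 * (1 - 4 * e) * hst
      + (-4 * W.a₃) * hes + 8 * W.a₂ * her - 4 * W.a₁ * het
  have e6 : r * W.a₄ - t * W.a₃ = 6 * W.a₆ * e := by
    have h := congrArg WeierstrassCurve.a₆ hD
    rw [WeierstrassCurve.variableChange_a₆] at h
    simp only [hinv] at h
    linear_combination h + (-(15 - 20 * e + 15 * e * e - 6 * e * (e * e) + (e * e) * (e * e)) *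
        (W.a₆ + r * W.a₄ + r ^ 2 * W.a₂ + r ^ 3 - t * W.a₃ - t ^ 2 - r * t * W.a₁)) * hee
      - (1 - 6 * e) * W.a₂ * hrr - (1 - 6 * e) * r * hrr + (1 - 6 * e) * htt + (1 - 6 * e) * W.a₁ * hrt
      + 6 * W.a₄ * her - 6 * W.a₃ * het
  suffices h : e = 0 ∧ r = 0 ∧ s = 0 ∧ t = 0 by
    obtain ⟨h0, rfl, rfl, rfl⟩ := h
    rw [WeierstrassCurve.VariableChange.one_def]
    have : U = 1 := Units.ext (by rw [hU, h0, add_zero, Units.val_one])
    rw [this]
  by_cases h2 : IsUnit (2 : T)
  · have st : e = 0 → r = 0 → s = 0 ∧ t = 0 := fun he0 hr0 =>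
      ⟨h2.mul_right_eq_zero.mp (by linear_combination e1 + W.a₁ * he0),
       h2.mul_right_eq_zero.mp (by linear_combination e3 - W.a₁ * hr0 + 3 * W.a₃ * he0)⟩
    have k1 : 6 * r = W.b₂ * e := by
      rw [WeierstrassCurve.b₂]; linear_combination 2 * e2 + W.a₁ * e1
    have k2 : 4 * W.b₄ * e = W.b₂ * r := by
      rw [WeierstrassCurve.b₂, WeierstrassCurve.b₄]
      linear_combination -2 * e4 - W.a₃ * e1 - W.a₁ * e3
    have k3 : 3 * W.b₆ * e = W.b₄ * r := by
      rw [WeierstrassCurve.b₄, WeierstrassCurve.b₆]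
      linear_combination -2 * e6 - W.a₃ * e3
    suffices h : e = 0 ∧ r = 0 from ⟨h.1, h.2, st h.1 h.2⟩
    by_cases h3 : IsUnit (3 : T)
    · have h6 : IsUnit (6 : T) := by
        rw [show (6 : T) = 2 * 3 by norm_num]; exact h2.mul h3
      have c4 : W.c₄ * e = 0 := by
        rw [WeierstrassCurve.c₄]; linear_combination -W.b₂ * k1 - 6 * k2
      have c6 : W.c₆ * e = 0 := by
        have c4' := c4
        rw [WeierstrassCurve.c₄] at c4'
        rw [WeierstrassCurve.c₆]
        linear_combination -W.b₂ * c4' - 12 * W.b₄ * k1 - 72 * k3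
      have hΔ0 : (2 ^ 6 * 3 ^ 3 * W.Δ) * e = 0 := by
        linear_combination e * W.c_relation + W.c₄ ^ 2 * c4 - W.c₆ * c6
      have he0 : e = 0 := (((h2.pow 6).mul (h3.pow 3)).mul hΔ).mul_right_eq_zero.mp hΔ0
      exact ⟨he0, h6.mul_right_eq_zero.mp (by linear_combination k1 + W.b₂ * he0)⟩
    · have h3' : ∀ x ∈ maximalIdeal T, (3 : T) * x = 0 := fun x hx => hsq _ (nu h3) _ hx
      by_cases hb : IsUnit W.b₂
      · have he0 : e = 0 := hb.mul_right_eq_zero.mp (by linear_combination -k1 + 2 * h3' _ hr)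
        exact ⟨he0, hb.mul_right_eq_zero.mp (by linear_combination -k2 + 4 * W.b₄ * he0)⟩
      · have hb' : ∀ x ∈ maximalIdeal T, W.b₂ * x = 0 := fun x hx => hsq _ (nu hb) _ hx
        have hb4 : IsUnit W.b₄ := by
          by_contra h4
          refine (mem_maximalIdeal _).mp ?_ hΔ
          have m2 := nu hb; have m3 := nu h3; have m4 := nu h4
          rw [← residue_eq_zero_iff] at m2 m3 m4 ⊢
          rw [show W.Δ = -W.b₂ ^ 2 * W.b₈ - 8 * W.b₄ ^ 3 - 3 * 9 * W.b₆ ^ 2 + 9 * W.b₂ * W.b₄ * W.b₆ by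
            rw [WeierstrassCurve.Δ]; ring]
          simp only [map_sub, map_add, map_mul, map_pow, map_neg, m2, m3, m4]
          ring
        have he0 : e = 0 := (h2.mul (h2.mul hb4)).mul_right_eq_zero.mp
          (by linear_combination k2 + hb' _ hr)
        exact ⟨he0, hb4.mul_right_eq_zero.mp (by linear_combination -k3 + 3 * W.b₆ * he0)⟩
  · have h2' : ∀ x ∈ maximalIdeal T, (2 : T) * x = 0 := fun x hx => hsq _ (nu h2) _ hx
    have h3 : IsUnit (3 : T) := by
      by_contra h3
      refine (mem_maximalIdeal _).mp ?_ (isUnit_one (M := T))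
      rw [show (1 : T) = 3 - 2 by norm_num]
      exact sub_mem (nu h3) (nu h2)
    by_cases ha : IsUnit W.a₁
    · have he0 : e = 0 := ha.mul_right_eq_zero.mp (by linear_combination -e1 + h2' _ hs)
      have hr0 : r = 0 := ha.mul_right_eq_zero.mp
        (by linear_combination e3 - h2' _ ht + 3 * W.a₃ * he0)
      have hs0 : s = 0 := ha.mul_right_eq_zero.mp
        (by linear_combination -e2 + 3 * hr0 - 2 * W.a₂ * he0)
      exact ⟨he0, hr0, hs0, ha.mul_right_eq_zero.mp
        (by linear_combination -e4 - W.a₃ * hs0 + 2 * W.a₂ * hr0 - 4 * W.a₄ * he0)⟩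
    · have ha' : ∀ x ∈ maximalIdeal T, W.a₁ * x = 0 := fun x hx => hsq _ (nu ha) _ hx
      have ha3 : IsUnit W.a₃ := by
        by_contra h
        refine (mem_maximalIdeal _).mp ?_ hΔ
        have m2 := nu h2; have m1 := nu ha; have m3 := nu h
        rw [← residue_eq_zero_iff] at m2 m1 m3 ⊢
        rw [WeierstrassCurve.Δ, WeierstrassCurve.b₂, WeierstrassCurve.b₄, WeierstrassCurve.b₆, WeierstrassCurve.b₈]
        rw [show (4 : T) * W.a₂ = 2 * (2 * W.a₂) by ring, show (4 : T) * W.a₆ = 2 * (2 * W.a₆) by ring]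
        simp only [map_sub, map_add, map_mul, map_pow, map_neg, m2, m1, m3]
        ring
      have hr0 : r = 0 := h3.mul_right_eq_zero.mp
        (by linear_combination e2 + ha' _ hs + W.a₂ * h2' _ hu)
      have he0 : e = 0 := (h3.mul ha3).mul_right_eq_zero.mp
        (by linear_combination -e3 + h2' _ ht + ha' _ hr)
      have hs0 : s = 0 := ha3.mul_right_eq_zero.mp
        (by linear_combination -e4 + W.a₂ * h2' _ hr - ha' _ ht - 4 * W.a₄ * he0)
      exact ⟨he0, hr0, hs0, ha3.mul_right_eq_zero.mp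
        (by linear_combination -e6 + W.a₄ * hr0 - 6 * W.a₆ * he0)⟩

end Groth.Agent.EllLiftJ
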